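import Cfsg.Agent.Lib.ChevTwoGen49.Check
import Cfsg.Prelude.Def_ChevB2
import Cfsg.Prelude.Def_ChevG2
import Cfsg.Prelude.Def_ChevD4
import Cfsg.Prelude.Def_ChevF4
import Cfsg.Prelude.Def_ChevE6
import Cfsg.Prelude.Def_ChevE7
import Cfsg.Prelude.Def_ChevE8

/-!
Certificates for two-generation of the exceptional Chevalley groups.
-/

set_option autoImplicit false
set_option maxRecDepth 100000

namespace Cfsg.Agent.Lib.ChevTwoGen49

open Cfsg.Lie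

/-- Steps for G2. -/
def stepsBG2 : List (ℕ × ℕ × ℕ) :=
  [(1,6,0), (1,0,0), (1,8,0), (1,2,0), (0,10,0), (1,5,0), (1,11,0), (0,1,7), (1,3,0), (1,9,0)]

theorem paramB_G2 : paramB chevG2 [0, 1, 0, 1] 0 1 0 1 stepsBG2 = true := by decide +kernel

/-- Steps for B2. -/
def stepsBB2 : List (ℕ × ℕ × ℕ) :=
  [(1,5,0), (1,6,0), (1,2,0), (1,0,0), (1,3,0), (1,7,0)]

theorem paramB_B2 : paramB chevB2 [0, 1] 1 0 0 1 stepsBB2 = true := by decide +kernel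

/-- Steps for D4. -/
def stepsBD4 : List (ℕ × ℕ × ℕ) :=
  [(1,13,0), (1,2,0), (1,8,0), (1,10,0), (1,21,0), (1,22,0), (1,5,0), (1,9,0), (1,1,0), (1,18,0), (0,14,18), (1,19,0), (1,23,0), (1,17,0),
  (1,4,0), (1,0,0), (0,14,8), (1,11,0), (1,20,0), (1,16,0), (1,12,0), (1,3,0)]

theorem paramB_D4 : paramB chevD4 [0, 1, 2, 3] 1 2 2 1 stepsBD4 = true := by decide +kernel

/-- Steps for F4. -/
def stepsBF4 : List (ℕ × ℕ × ℕ) :=
  [(1,25,0), (1,24,0), (1,5,0), (1,17,0), (1,4,0), (1,16,0), (1,22,0), (1,23,0), (1,42,0), (1,30,0), (1,43,0), (1,27,0), (1,35,0), (1,38,0),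
  (1,28,0), (1,36,0), (1,14,0), (1,20,0), (1,12,0), (1,9,0), (1,19,0), (1,11,0), (0,33,11), (1,18,0), (1,34,0), (1,37,0), (1,44,0), (1,40,0),
  (1,39,0), (1,29,0), (1,13,0), (1,10,0), (1,3,0), (1,7,0), (0,31,7), (1,1,0), (1,0,0), (1,15,0), (1,21,0), (1,41,0), (1,45,0), (1,46,0),
  (1,47,0), (1,32,0), (1,26,0), (1,6,0)]

theorem paramB_F4 : paramB chevF4 [0, 1, 2, 3] 0 2 2 1 stepsBF4 = true := by decide +kernel

/-- Steps for E6. -/
def stepsBE6 : List (ℕ × ℕ × ℕ) :=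
  [(1,46,0), (1,58,0), (1,51,0), (1,65,0), (1,44,0), (1,49,0), (1,25,0), (1,13,0), (1,20,0), (1,6,0), (1,27,0), (1,47,0), (1,59,0), (1,52,0),
  (1,39,0), (1,37,0), (1,36,0), (1,8,0), (1,28,0), (1,23,0), (1,11,0), (1,56,0), (0,42,56), (1,57,0), (1,50,0), (1,64,0), (1,69,0), (1,54,0),
  (1,40,0), (1,38,0), (1,9,0), (1,3,0), (1,18,0), (1,5,0), (0,26,9), (1,2,0), (1,17,0), (1,31,0), (1,33,0), (1,62,0), (1,68,0), (1,53,0),
  (1,66,0), (1,45,0), (1,14,0), (1,21,0), (0,7,53), (1,15,0), (1,29,0), (1,24,0), (1,12,0), (1,19,0), (1,32,0), (1,34,0), (1,35,0), (1,63,0),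
  (1,43,0), (1,48,0), (0,60,14), (1,41,0), (1,10,0), (1,4,0), (1,0,0), (1,1,0), (1,16,0), (1,30,0), (1,61,0), (1,67,0), (1,71,0), (1,70,0)]

theorem paramB_E6 : paramB chevE6 [0, 1, 2, 3, 4, 5] 0 1 0 2 stepsBE6 = true := by decide +kernel

/-- Steps for E7. -/
def stepsBE7 : List (ℕ × ℕ × ℕ) :=
  [(1,78,0), (1,95,0), (1,84,0), (1,104,0), (1,113,0), (1,88,0), (1,107,0), (1,76,0), (1,82,0), (1,47,0), (1,30,0), (1,41,0), (1,21,0), (1,12,0),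
  (1,37,0), (1,18,0), (1,49,0), (1,85,0), (1,105,0), (1,75,0), (1,81,0), (1,98,0), (1,32,0), (1,52,0), (1,46,0), (1,29,0), (1,40,0), (1,20,0),
  (1,50,0), (1,44,0), (1,27,0), (1,93,0), (1,73,0), (1,79,0), (0,96,79), (1,103,0), (1,112,0), (1,121,0), (1,116,0), (1,90,0), (1,108,0), (1,77,0),
  (1,31,0), (1,42,0), (1,22,0), (1,13,0), (1,4,0), (1,9,0), (1,35,0), (1,17,0), (1,48,0), (1,94,0), (0,83,96), (1,109,0), (1,119,0), (1,125,0),
  (1,124,0), (1,123,0), (1,118,0), (1,92,0), (1,72,0), (1,26,0), (1,16,0), (1,6,0), (1,0,0), (1,1,0), (1,2,0), (1,7,0), (1,33,0), (1,53,0),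
  (0,99,22), (1,55,0), (1,58,0), (1,60,0), (1,101,0), (1,111,0), (1,87,0), (1,106,0), (1,114,0), (1,89,0), (1,70,0), (1,67,0), (1,65,0), (1,24,0),
  (1,14,0), (1,38,0), (1,19,0), (1,11,0), (0,36,82), (1,51,0), (1,45,0), (1,28,0), (1,39,0), (1,56,0), (1,59,0), (1,61,0), (1,62,0), (1,102,0),
  (1,74,0), (1,80,0), (1,97,0), (1,86,0), (1,69,0), (1,66,0), (1,64,0), (1,63,0), (0,23,38), (1,5,0), (1,10,0), (1,3,0), (1,8,0), (1,34,0),
  (1,54,0), (1,57,0), (1,100,0), (1,110,0), (1,120,0), (1,115,0), (1,122,0), (1,117,0), (1,91,0), (1,71,0), (1,68,0), (1,25,0)]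

theorem paramB_E7 : paramB chevE7 [0, 1, 2, 3, 4, 5, 6] 0 1 3 4 stepsBE7 = true := by decide +kernel

/-- Steps for E8. -/
def stepsBE8 : List (ℕ × ℕ × ℕ) :=
  [(1,141,0), (1,164,0), (1,148,0), (1,175,0), (1,189,0), (1,208,0), (1,195,0), (1,211,0), (1,197,0), (1,212,0), (1,198,0), (1,157,0), (1,182,0), (1,139,0),
  (1,146,0), (1,98,0), (1,75,0), (1,91,0), (1,64,0), (1,50,0), (1,31,0), (1,44,0), (1,28,0), (1,42,0), (1,27,0), (1,41,0), (1,82,0), (1,57,0),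
  (1,100,0), (1,135,0), (1,142,0), (1,165,0), (1,149,0), (1,176,0), (1,190,0), (1,153,0), (1,179,0), (1,192,0), (1,154,0), (1,180,0), (1,138,0), (1,145,0),
  (1,168,0), (1,77,0), (1,104,0), (1,97,0), (1,74,0), (1,90,0), (1,63,0), (1,49,0), (1,86,0), (1,60,0), (1,47,0), (1,85,0), (1,59,0), (1,101,0),
  (1,94,0), (1,71,0), (0,162,71), (1,99,0), (1,163,0), (1,147,0), (1,174,0), (1,188,0), (1,207,0), (1,228,0), (1,220,0), (1,214,0), (1,230,0), (1,222,0),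
  (1,216,0), (1,201,0), (1,159,0), (1,183,0), (1,140,0), (1,76,0), (1,92,0), (1,65,0), (1,51,0), (1,32,0), (1,11,0), (1,19,0), (1,25,0), (1,9,0),
  (1,17,0), (1,23,0), (1,38,0), (1,80,0), (0,56,19), (1,0,0), (1,15,0), (1,21,0), (1,36,0), (1,78,0), (1,105,0), (1,169,0), (1,184,0), (1,204,0),
  (1,226,0), (1,234,0), (1,235,0), (1,236,0), (1,237,0), (1,238,0), (1,239,0), (1,224,0), (1,218,0), (1,203,0), (1,161,0), (1,134,0), (1,70,0), (1,55,0),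
  (1,35,0), (1,13,0), (1,5,0), (1,4,0), (1,3,0), (1,2,0), (0,1,203), (1,34,0), (1,12,0), (1,20,0), (1,6,0), (1,7,0), (1,14,0), (1,8,0),
  (1,16,0), (1,22,0), (1,37,0), (1,79,0), (1,106,0), (1,110,0), (1,170,0), (1,185,0), (1,205,0), (1,227,0), (1,219,0), (1,233,0), (1,232,0), (1,225,0),
  (1,231,0), (1,223,0), (1,217,0), (1,202,0), (1,160,0), (1,133,0), (1,129,0), (1,69,0), (0,54,204), (1,143,0), (1,166,0), (1,150,0), (1,177,0), (1,137,0),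
  (1,144,0), (1,167,0), (1,151,0), (1,130,0), (1,126,0), (1,123,0), (1,121,0), (1,120,0), (1,66,0), (1,103,0), (1,96,0), (1,73,0), (1,89,0), (1,62,0),
  (1,102,0), (1,95,0), (1,72,0), (1,88,0), (1,109,0), (1,113,0), (1,116,0), (1,118,0), (1,119,0), (1,173,0), (0,136,173), (1,187,0), (1,152,0), (1,178,0),
  (1,191,0), (1,209,0), (1,196,0), (1,156,0), (1,181,0), (1,193,0), (1,155,0), (1,131,0), (1,127,0), (1,124,0), (1,122,0), (1,67,0), (1,52,0), (1,87,0),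
  (1,61,0), (1,48,0), (1,30,0), (1,43,0), (1,83,0), (1,58,0), (1,46,0), (1,84,0), (1,108,0), (1,112,0), (1,115,0), (1,117,0), (0,172,58), (1,107,0),
  (1,111,0), (1,114,0), (1,171,0), (1,186,0), (1,206,0), (1,194,0), (1,210,0), (1,229,0), (1,221,0), (1,215,0), (1,200,0), (1,213,0), (1,199,0), (1,158,0),
  (1,132,0), (1,128,0), (1,125,0), (1,68,0), (1,53,0), (1,33,0), (1,45,0), (1,29,0), (1,10,0), (1,18,0), (1,24,0), (1,39,0), (1,26,0), (1,40,0)]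

theorem paramB_E8 : paramB chevE8 [0, 1, 2, 3, 4, 5, 6, 7] 0 1 7 1 stepsBE8 = true := by decide +kernel

/-- Steps for D4. -/
def stepsCD4 : List (ℕ × ℕ × ℕ) :=
  [(1,2,0), (1,8,0), (1,10,0), (1,21,0), (1,15,0), (0,13,15), (1,17,0), (1,4,0), (1,0,0), (1,6,0), (1,19,0), (2,0,0), (1,1,0), (1,18,0),
  (1,14,0), (1,22,0), (1,5,0), (0,9,15), (1,12,0), (1,3,0), (1,7,0), (1,11,0), (1,20,0)]

theorem paramC_D4 : paramC chevD4 [0, 1, 2, 3] 2 1 stepsCD4 = true := by decide +kernel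

/-- Steps for F4. -/
def stepsCF4 : List (ℕ × ℕ × ℕ) :=
  [(1,0,0), (1,15,0), (1,21,0), (1,41,0), (1,45,0), (1,46,0), (1,47,0), (1,32,0), (1,26,0), (1,6,0), (1,2,0), (0,1,47), (1,24,0), (1,5,0),
  (1,17,0), (1,4,0), (1,16,0), (1,22,0), (1,23,0), (1,42,0), (1,30,0), (1,43,0), (1,31,0), (2,43,0), (1,39,0), (1,29,0), (1,13,0), (1,10,0),
  (1,3,0), (1,7,0), (1,8,0), (1,18,0), (1,34,0), (1,37,0), (1,44,0), (0,40,8), (1,27,0), (1,35,0), (1,38,0), (1,28,0), (1,36,0), (1,14,0),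
  (1,20,0), (1,12,0), (1,9,0), (1,19,0), (1,11,0)]

theorem paramC_F4 : paramC chevF4 [0, 1, 2, 3] 0 0 stepsCF4 = true := by decide +kernel

/-- Steps for E6. -/
def stepsCE6 : List (ℕ × ℕ × ℕ) :=
  [(1,0,0), (1,1,0), (1,16,0), (1,30,0), (1,61,0), (1,67,0), (1,71,0), (1,70,0), (1,55,0), (1,41,0), (1,10,0), (0,4,71), (1,49,0), (1,25,0),
  (1,13,0), (1,20,0), (1,6,0), (1,27,0), (1,22,0), (1,46,0), (1,58,0), (1,51,0), (1,65,0), (2,44,0), (1,59,0), (1,52,0), (1,39,0), (1,37,0),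
  (1,36,0), (1,8,0), (1,28,0), (1,23,0), (1,11,0), (1,56,0), (1,42,0), (0,47,42), (1,50,0), (1,64,0), (1,69,0), (1,54,0), (1,40,0), (1,38,0),
  (1,9,0), (1,3,0), (1,18,0), (1,5,0), (1,26,0), (0,57,3), (1,17,0), (1,31,0), (1,33,0), (1,62,0), (1,68,0), (1,53,0), (1,66,0), (1,45,0),
  (1,14,0), (1,21,0), (1,7,0), (0,2,66), (1,29,0), (1,24,0), (1,12,0), (1,19,0), (1,32,0), (1,34,0), (1,35,0), (1,63,0), (1,43,0), (1,48,0),
  (1,60,0)]

theorem paramC_E6 : paramC chevE6 [0, 1, 2, 3, 4, 5] 0 0 stepsCE6 = true := by decide +kernel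

/-- Steps for E7. -/
def stepsCE7 : List (ℕ × ℕ × ℕ) :=
  [(1,0,0), (1,1,0), (1,2,0), (1,7,0), (1,33,0), (1,53,0), (1,99,0), (1,109,0), (1,119,0), (1,125,0), (1,124,0), (1,123,0), (1,118,0), (1,92,0),
  (1,72,0), (1,26,0), (1,16,0), (0,6,124), (1,77,0), (1,31,0), (1,42,0), (1,22,0), (1,13,0), (1,4,0), (1,9,0), (1,35,0), (1,17,0), (1,48,0),
  (1,94,0), (1,83,0), (1,103,0), (1,112,0), (1,121,0), (1,116,0), (1,90,0), (0,108,53), (1,101,0), (1,111,0), (1,87,0), (1,106,0), (1,114,0), (1,89,0),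
  (1,70,0), (1,67,0), (1,65,0), (1,24,0), (1,14,0), (1,38,0), (1,19,0), (1,11,0), (1,36,0), (1,55,0), (1,58,0), (0,60,22), (1,20,0), (1,50,0),
  (1,44,0), (1,27,0), (1,93,0), (1,73,0), (1,79,0), (1,96,0), (1,85,0), (1,105,0), (1,75,0), (1,81,0), (1,98,0), (1,32,0), (1,52,0), (1,46,0),
  (1,29,0), (2,40,0), (1,49,0), (1,43,0), (1,78,0), (1,95,0), (1,84,0), (1,104,0), (1,113,0), (1,88,0), (1,107,0), (1,76,0), (1,82,0), (1,47,0),
  (1,30,0), (1,41,0), (1,21,0), (1,12,0), (1,37,0), (0,18,40), (1,3,0), (1,8,0), (1,34,0), (1,54,0), (1,57,0), (1,100,0), (1,110,0), (1,120,0),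
  (1,115,0), (1,122,0), (1,117,0), (1,91,0), (1,71,0), (1,68,0), (1,25,0), (1,15,0), (1,5,0), (0,10,106), (1,51,0), (1,45,0), (1,28,0), (1,39,0),
  (1,56,0), (1,59,0), (1,61,0), (1,62,0), (1,102,0), (1,74,0), (1,80,0), (1,97,0), (1,86,0), (1,69,0), (1,66,0), (1,64,0), (1,63,0)]

theorem paramC_E7 : paramC chevE7 [0, 1, 2, 3, 4, 5, 6] 0 1 stepsCE7 = true := by decide +kernel

/-- Steps for E8. -/
def stepsCE8 : List (ℕ × ℕ × ℕ) :=
  [(1,0,0), (1,15,0), (1,21,0), (1,36,0), (1,78,0), (1,105,0), (1,169,0), (1,184,0), (1,204,0), (1,226,0), (1,234,0), (1,235,0), (1,236,0), (1,237,0),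
  (1,238,0), (1,239,0), (1,224,0), (1,218,0), (1,203,0), (1,161,0), (1,134,0), (1,70,0), (1,55,0), (1,35,0), (1,13,0), (1,5,0), (1,4,0), (1,3,0),
  (1,2,0), (0,1,203), (1,34,0), (1,12,0), (1,20,0), (1,6,0), (1,7,0), (1,14,0), (1,8,0), (1,16,0), (1,22,0), (1,37,0), (1,79,0), (1,106,0),
  (1,110,0), (1,170,0), (1,185,0), (1,205,0), (1,227,0), (1,219,0), (1,233,0), (1,232,0), (1,225,0), (1,231,0), (1,223,0), (1,217,0), (1,202,0), (1,160,0),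
  (1,133,0), (1,129,0), (1,69,0), (0,54,219), (1,157,0), (1,182,0), (1,139,0), (1,146,0), (1,98,0), (1,75,0), (1,91,0), (1,64,0), (1,50,0), (1,31,0),
  (1,44,0), (1,28,0), (1,42,0), (1,27,0), (1,41,0), (1,82,0), (1,57,0), (1,100,0), (1,93,0), (1,141,0), (1,164,0), (1,148,0), (1,175,0), (1,189,0),
  (1,208,0), (1,195,0), (1,211,0), (1,197,0), (1,212,0), (0,198,148), (1,220,0), (1,214,0), (1,230,0), (1,222,0), (1,216,0), (1,201,0), (1,159,0), (1,183,0),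
  (1,140,0), (1,76,0), (1,92,0), (1,65,0), (1,51,0), (1,32,0), (1,11,0), (1,19,0), (1,25,0), (1,9,0), (1,17,0), (1,23,0), (1,38,0), (1,80,0),
  (1,56,0), (1,99,0), (1,163,0), (1,147,0), (1,174,0), (1,188,0), (1,207,0), (0,228,9), (1,112,0), (1,115,0), (1,117,0), (1,172,0), (1,187,0), (1,152,0),
  (1,178,0), (1,191,0), (1,209,0), (1,196,0), (1,156,0), (1,181,0), (1,193,0), (1,155,0), (1,131,0), (1,127,0), (1,124,0), (1,122,0), (1,67,0), (1,52,0),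
  (1,87,0), (1,61,0), (1,48,0), (1,30,0), (1,43,0), (1,83,0), (1,58,0), (1,46,0), (1,84,0), (0,108,48), (1,39,0), (1,26,0), (1,40,0), (1,81,0),
  (1,107,0), (1,111,0), (1,114,0), (1,171,0), (1,186,0), (1,206,0), (1,194,0), (1,210,0), (1,229,0), (1,221,0), (1,215,0), (1,200,0), (1,213,0), (1,199,0),
  (1,158,0), (1,132,0), (1,128,0), (1,125,0), (1,68,0), (1,53,0), (1,33,0), (1,45,0), (1,29,0), (1,10,0), (1,18,0), (0,24,156), (1,62,0), (1,102,0),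
  (1,95,0), (1,72,0), (1,88,0), (1,109,0), (1,113,0), (1,116,0), (1,118,0), (1,119,0), (1,173,0), (1,136,0), (1,143,0), (1,166,0), (1,150,0), (1,177,0),
  (1,137,0), (1,144,0), (1,167,0), (1,151,0), (1,130,0), (1,126,0), (1,123,0), (1,121,0), (1,120,0), (1,66,0), (1,103,0), (1,96,0), (1,73,0), (0,89,121),
  (1,90,0), (1,63,0), (1,49,0), (1,86,0), (1,60,0), (1,47,0), (1,85,0), (1,59,0), (1,101,0), (1,94,0), (1,71,0), (1,162,0), (1,135,0), (1,142,0),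
  (1,165,0), (1,149,0), (1,176,0), (1,190,0), (1,153,0), (1,179,0), (1,192,0), (1,154,0), (1,180,0), (1,138,0), (1,145,0), (1,168,0), (1,77,0), (1,104,0),
  (1,97,0)]

theorem paramC_E8 : paramC chevE8 [0, 1, 2, 3, 4, 5, 6, 7] 0 0 stepsCE8 = true := by decide +kernel

end Cfsg.Agent.Lib.ChevTwoGen49
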