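import Cfsg.Prelude.Def_ChevStructure

/-!
Checker for certificates that the root subgroups reachable from given seeds (by commutators, by the
action of a fixed product of fundamental reflections, and in the field of two elements by one extra
element of order three) are all root subgroups.
-/

set_option autoImplicit false

namespace Cfsg.Agent.Lib.ChevTwoGen49

open Cfsg.Lie

variable (D : ChevalleyDatum)

/-- A word in fundamental reflections acting on root indices. -/
def actW (L : List ℕ) (r : ℕ) : ℕ := L.foldr D.reflectRoot r

/-- The Cartan integer of a root with a root, from the coroot coefficients. -/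
def prN (u r : ℕ) : ℤ :=
  ((List.range D.rank).map fun j => (D.coroot.getD u #[]).getD j 0 * D.cartan j r).sum

/-- The single unknown term of a commutator, with a linear first parameter and a unit coefficient. -/
def newComm (R : List ℕ) (a b : ℕ) : Option ℕ :=
  if R.contains a && R.contains b && a != b && b != D.neg a then
    match (D.commTerms a b).filter (fun c => !R.contains c.1) with
    | [(k, c, 1, _)] => if c.natAbs == 1 then some k else none
    | _ => none
  else none

/-- The root reached by conjugation with `x_s(1) n_s`, `s` the `j`-th fundamental root. -/
def newExtra (j : ℕ) (R : List ℕ) (q : ℕ) : Option ℕ :=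
  let s := D.simple j
  let q' := D.reflectRoot j q
  if R.contains q && q' != s && q' != D.neg s then
    if (D.commTerms s q').isEmpty then some q'
    else if R.contains q' then
      match (D.commTerms s q').filter (fun c => !R.contains c.1) with
      | [(k, c, _, _)] => if c.natAbs % 2 == 1 then some k else none
      | _ => none
    else none
  else none

/-- One certificate step. -/
def step (L : List ℕ) (ex : Option ℕ) (R : List ℕ) : ℕ × ℕ × ℕ → Option (List ℕ)
  | (0, a, b) => (newComm D R a b).map (· :: R)
  | (1, q, _) => if R.contains q then some (actW D L q :: R) else none
  | (2, q, _) => ex.bind fun j => (newExtra D j R q).map (· :: R)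
  | _ => none

/-- Run a certificate. -/
def run (L : List ℕ) (ex : Option ℕ) : List (ℕ × ℕ × ℕ) → List ℕ → Option (List ℕ)
  | [], R => some R
  | s :: ss, R => (step D L ex R s).bind (run L ex ss)

/-- The certificate covers all roots. -/
def coversAll (L : List ℕ) (ex : Option ℕ) (seeds : List ℕ) (ss : List (ℕ × ℕ × ℕ)) : Bool :=
  match run D L ex ss seeds with
  | some R => (List.range D.nroots).all R.contains
  | none => false

/-- Conditions for the regime with at least three field elements. -/
def paramB (L : List ℕ) (i j u k : ℕ) (ss : List (ℕ × ℕ × ℕ)) : Bool :=
  let r := D.simple i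
  let r' := D.simple j
  let s := (actW D L)^[k] r
  L.all (fun l => decide (l < D.rank)) && decide (i < D.rank) && decide (j < D.rank) && decide (u < D.nroots) &&
    prN D u r == 0 && (prN D u r').natAbs == 1 && (prN D u (actW D L.reverse r')).natAbs == 1 &&
    ((prN D u s).natAbs == 1 || (prN D u s).natAbs == 2) && coversAll D L none [r', s] ss

/-- Conditions for the field of two elements. -/
def paramC (L : List ℕ) (r j : ℕ) (ss : List (ℕ × ℕ × ℕ)) : Bool :=
  let s := D.simple j
  L.all (fun l => decide (l < D.rank)) && decide (r < D.nroots) && decide (j < D.rank) &&
    r != s && r != D.neg s && (D.commTerms r s).isEmpty && (D.commTerms r (D.neg s)).isEmpty &&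
    coversAll D L (some j) [r] ss

end Cfsg.Agent.Lib.ChevTwoGen49
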