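import Mathlib
import Cfsg.Agent.Lib.ChevTwoGen49.Check
import Cfsg.Agent.Lib.ChevStructure.CommGL
import Cfsg.Agent.Lib.ChevStructure.RankOne
import Cfsg.Agent.Lib.ChevStructure.WeylN

/-!
Two-generation of exceptional Chevalley groups from checkable parameters. With at least three field
elements the generators are `h x_r(1)` and `x_{r'}(1) n_w`; over two elements `x_r(1) x_s(1) n_s` and `n_w`.
-/

set_option autoImplicit false
set_option linter.unusedSectionVars false
set_option linter.style.haveILetI false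

namespace Cfsg.Agent.Lib.ChevTwoGen49

open Cfsg.Lie Cfsg.Agent.Lib.ChevStructure
open scoped MatrixGroups

/-- The letters of a word of indices. -/
def letters (D : ChevalleyDatum) (L : List ℕ) (hL : ∀ l ∈ L, l < D.rank) : List (Fin D.rank) :=
  L.pmap Fin.mk hL

section

variable {D : ChevalleyDatum} (C : Core D) {F : Type*} [Field F] (M : Subgroup (GL D.Idx F))

/-- The root subgroup with this index lies in `M`. -/
def Full (q : ℕ) : Prop := ∃ r : Rt D, r.val = q ∧ ∀ t, C.X F r t ∈ M

theorem prN_eq (u r : Rt D) : prN D u.val r.val = pr D u r := by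
  rw [prN, pr]
  exact (Fin.sum_univ_eq_sum_range
    (fun j => (D.coroot.getD u.val #[]).getD j 0 * D.cartan j r.val) D.rank).symm

theorem pprod_val : ∀ (L : List ℕ) (hL : ∀ l ∈ L, l < D.rank) (r : Rt D),
    (C.pprod (letters D L hL) r).val = actW D L r.val
  | [], _, _ => rfl
  | l :: L, hL, r => by
    have ih := pprod_val L (fun x hx => hL x (List.mem_cons_of_mem _ hx)) r
    show (C.pprod (⟨l, hL l List.mem_cons_self⟩ :: letters D L _) r).val = D.reflectRoot l (actW D L r.val)
    rw [C.pprod_cons, ← ih]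
    exact (C.w_eq ⟨l, hL l List.mem_cons_self⟩ _).symm

theorem pprod_reverse_mul : ∀ L : List (Fin D.rank), C.pprod L.reverse * C.pprod L = 1
  | [] => by simp [C.pprod_nil]
  | i :: L => by
    rw [List.reverse_cons, C.pprod_concat, C.pprod_cons, mul_assoc, ← mul_assoc (C.sref i),
      C.sref_mul_self, one_mul, pprod_reverse_mul L]

variable {M}

theorem mem_of_prod {G α : Type*} [Group G] (S : Subgroup G) (f : α → G) (P : α → Bool) {L : List α} {e : α}
    (hf : L.filter P = [e]) (hgood : ∀ x ∈ L, P x = false → f x ∈ S) (hp : (L.map f).prod ∈ S) :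
    f e ∈ S := by
  induction L with
  | nil => simp at hf
  | cons x L ih =>
    rw [List.map_cons, List.prod_cons] at hp
    by_cases hx : P x
    · rw [List.filter_cons_of_pos hx, List.cons.injEq] at hf
      obtain ⟨rfl, hnil⟩ := hf
      have hrest : (L.map f).prod ∈ S := list_prod_mem fun g hg => by
        obtain ⟨y, hy, rfl⟩ := List.mem_map.1 hg
        exact hgood y (List.mem_cons_of_mem _ hy) (by
          simpa using List.filter_eq_nil_iff.1 hnil y hy)
      exact (S.mul_mem_cancel_right hrest).1 hp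
    · rw [List.filter_cons_of_neg hx] at hf
      have h1 := hgood x List.mem_cons_self (by simpa using hx)
      exact ih hf (fun y hy => hgood y (List.mem_cons_of_mem _ hy)) ((S.mul_mem_cancel_left h1).1 hp)

variable {C}

theorem full_XN {q : ℕ} (h : Full C M q) (t : F) : C.XN F q t ∈ M := by
  obtain ⟨r, rfl, hr⟩ := h
  rw [C.XN_fin]; exact hr t

variable (H : CommOK C)
include H

theorem newComm_sound {R : List ℕ} (hR : ∀ q ∈ R, Full C M q) {a b k : ℕ}
    (h : newComm D R a b = some k) : Full C M k := by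
  unfold newComm at h
  split at h
  next hc =>
    simp only [Bool.and_eq_true, bne_iff_ne, ne_eq, List.contains_iff_mem] at hc
    obtain ⟨⟨⟨ha, hb⟩, hne⟩, hneg⟩ := hc
    split at h
    next k' c j hf =>
      split at h
      next hcu =>
        obtain rfl : k' = k := by simpa using h
        obtain ⟨r, rfl, hr⟩ := hR a ha
        obtain ⟨s, rfl, hs⟩ := hR b hb
        have hsr : s ≠ r := fun e => hne (by rw [e])
        have hsn : s ≠ r.rev := fun e => hneg (by rw [e, C.neg_val])
        have hmem : (k', c, 1, j) ∈ D.commTerms r.val s.val :=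
          (List.mem_filter.1 (hf ▸ List.mem_singleton_self (k', c, 1, j) :
            (k', c, 1, j) ∈ (D.commTerms r.val s.val).filter fun c => !R.contains c.1)).1
        obtain ⟨q, hq, -, -, -⟩ := H.terms r s hsr hsn _ hmem
        refine ⟨q, hq.symm, fun v => ?_⟩
        have hcF : (c : F) ≠ 0 := by
          rw [beq_iff_eq] at hcu
          rcases Int.natAbs_eq c with e | e <;> rw [e, hcu] <;> simp
        have key := H.comm_X r s hsr hsn (-(v / (c : F))) 1
        have hp : ((D.commTerms r.val s.val).map fun e =>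
            C.XN F e.1 ((e.2.1 : F) * (- -(v / (c : F))) ^ e.2.2.1 * (1 : F) ^ e.2.2.2)).prod ∈ M :=
          (M.mul_mem_cancel_left (M.mul_mem (hr _) (hs _))).1 (key ▸ M.mul_mem (hs _) (hr _))
        have := mem_of_prod M _ _ hf (fun e _ he => full_XN (hR e.1 (by simpa using he)) _) hp
        simp only [neg_neg, pow_one, one_pow, mul_one, mul_div_cancel₀ _ hcF] at this
        rw [show k' = q.val from hq, C.XN_fin] at this
        exact this
      next => simp at h
    next => simp at h
  next => simp at h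

theorem shift_sound {L : List ℕ} {hL : ∀ l ∈ L, l < D.rank} (hn : C.wprod F (letters D L hL) ∈ M)
    {q : ℕ} (hq : Full C M q) : Full C M (actW D L q) := by
  obtain ⟨r, rfl, hr⟩ := hq
  refine ⟨C.pprod (letters D L hL) r, pprod_val C L hL r, fun t => ?_⟩
  obtain ⟨e, he⟩ := C.acts_wprod F (letters D L hL) r
  have := M.mul_mem (M.mul_mem hn (hr ((↑e⁻¹ : F) * t))) (M.inv_mem hn)
  rwa [he, ← mul_assoc, Units.mul_inv, one_mul] at this

theorem extra_sound (h2 : ∀ x : F, x = 0 ∨ x = 1) {j : Fin D.rank}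
    (hy : C.X F (C.p j) 1 * C.P F j ∈ M) {R : List ℕ} (hR : ∀ q ∈ R, Full C M q) {q k : ℕ}
    (h : newExtra D j.val R q = some k) : Full C M k := by
  have full_of_one : ∀ r : Rt D, C.X F r 1 ∈ M → Full C M r.val := by
    intro r hr
    refine ⟨r, rfl, fun t => ?_⟩
    rcases h2 t with rfl | rfl
    · rw [C.X_zero]; exact M.one_mem
    · exact hr
  have two : (1 : F) + 1 = 0 := by
    rcases h2 (1 + 1) with e | e
    · exact e
    · exact absurd (add_left_cancel (e.trans (add_zero (1 : F)).symm)) one_ne_zero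
  unfold newExtra at h
  simp only [] at h
  split at h
  next hc =>
    simp only [Bool.and_eq_true, bne_iff_ne, ne_eq, List.contains_iff_mem] at hc
    obtain ⟨⟨hq, hne⟩, hneg⟩ := hc
    obtain ⟨r, rfl, hr⟩ := hR q hq
    set q' := C.w j r with hq'
    have hv : D.reflectRoot j.val r.val = q'.val := C.w_eq j r
    rw [hv] at h hne hneg
    rw [C.simple_eq j] at h hne hneg
    rw [C.neg_val] at hneg
    have hsr : q' ≠ C.p j := fun e => hne (by rw [e])
    have hsn : q' ≠ (C.p j).rev := fun e => hneg (by rw [e])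
    have hη : (C.η j r : F) = 1 := by
      rcases h2 (C.η j r : F) with e | e
      · exfalso
        have := congrArg (Int.cast : ℤ → F) (C.η_mul_self j r)
        rw [Int.cast_mul, e, mul_zero, Int.cast_one] at this
        exact zero_ne_one this
      · exact e
    have hz : C.X F (C.p j) 1 * C.X F q' 1 * C.X F (C.p j) (-1) ∈ M := by
      have := M.mul_mem (M.mul_mem hy (hr 1)) (M.inv_mem hy)
      rw [show C.X F (C.p j) 1 * C.P F j * C.X F r 1 * (C.X F (C.p j) 1 * C.P F j)⁻¹ =
        C.X F (C.p j) 1 * (C.P F j * C.X F r 1 * (C.P F j)⁻¹) * (C.X F (C.p j) 1)⁻¹ by group,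
        C.P_X_conj, C.X_inv, hη, one_mul] at this
      exact this
    have key := H.comm_X (C.p j) q' hsr hsn (-1 : F) 1
    have hz2 : C.X F q' 1 * ((D.commTerms (C.p j).val q'.val).map fun e =>
        C.XN F e.1 ((e.2.1 : F) * (- -1 : F) ^ e.2.2.1 * (1 : F) ^ e.2.2.2)).prod ∈ M := by
      rw [show C.X F q' 1 * ((D.commTerms (C.p j).val q'.val).map fun e =>
        C.XN F e.1 ((e.2.1 : F) * (- -1 : F) ^ e.2.2.1 * (1 : F) ^ e.2.2.2)).prod =
        C.X F (C.p j) 1 * C.X F q' 1 * C.X F (C.p j) (-1) by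
          rw [mul_assoc (C.X F (C.p j) 1), key, ← C.X_inv]; group]
      exact hz
    split at h
    next he =>
      obtain rfl : q'.val = k := by simpa using h
      rw [List.isEmpty_iff] at he
      rw [he, List.map_nil, List.prod_nil, mul_one] at hz2
      exact full_of_one q' hz2
    next =>
      split at h
      next hqR =>
        split at h
        next k' c i i' hf =>
          split at h
          next hodd =>
            obtain rfl : k' = k := by simpa using h
            obtain ⟨q'', hq'', hfull⟩ := hR q'.val (List.contains_iff_mem.1 hqR)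
            obtain rfl : q'' = q' := Fin.ext hq''
            have hmem : (k', c, i, i') ∈ D.commTerms (C.p j).val q'.val :=
              (List.mem_filter.1 (hf ▸ List.mem_singleton_self (k', c, i, i') :
                (k', c, i, i') ∈ (D.commTerms (C.p j).val q'.val).filter fun c => !R.contains c.1)).1
            obtain ⟨q₀, hq₀, -, -, -⟩ := H.terms (C.p j) q' hsr hsn _ hmem
            have := mem_of_prod M _ _ hf (fun e _ he => full_XN (hR e.1 (by simpa using he)) _)
              ((M.mul_mem_cancel_left (hfull 1)).1 hz2)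
            have hc1 : (c : F) = 1 := by
              rw [beq_iff_eq] at hodd
              obtain ⟨m, hm⟩ := Int.natAbs_odd.1 (Nat.odd_iff.2 hodd)
              rw [hm, Int.cast_add, Int.cast_mul, Int.cast_one, Int.cast_ofNat, ← one_add_one_eq_two, two,
                zero_mul, zero_add]
            simp only [neg_neg, one_pow, mul_one, hc1] at this
            rw [show k' = q₀.val from hq₀, C.XN_fin] at this
            exact (show k' = q₀.val from hq₀) ▸ full_of_one q₀ this
          next => simp at h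
        next => simp at h
      next => simp at h
  next => simp at h

theorem run_sound {L : List ℕ} {hL : ∀ l ∈ L, l < D.rank} (hn : C.wprod F (letters D L hL) ∈ M)
    {ex : Option ℕ} (hex : ∀ j, ex = some j → ∀ {R : List ℕ}, (∀ q ∈ R, Full C M q) → ∀ {q k : ℕ},
      newExtra D j R q = some k → Full C M k) :
    ∀ (ss : List (ℕ × ℕ × ℕ)) (R R' : List ℕ), (∀ q ∈ R, Full C M q) → run D L ex ss R = some R' →
      ∀ q ∈ R', Full C M q
  | [], R, R', hR, h => by
    simp only [run, Option.some.injEq] at h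
    exact h ▸ hR
  | s :: ss, R, R', hR, h => by
    simp only [run, Option.bind_eq_some_iff] at h
    obtain ⟨R₁, h1, h2⟩ := h
    refine run_sound hn hex ss R₁ R' ?_ h2
    unfold step at h1
    split at h1
    next a b =>
      simp only [Option.map_eq_some_iff] at h1
      obtain ⟨k, hk, rfl⟩ := h1
      exact List.forall_mem_cons.2 ⟨newComm_sound H hR hk, hR⟩
    next q _ =>
      split at h1
      next hq =>
        obtain rfl : actW D L q :: R = R₁ := by simpa using h1
        exact List.forall_mem_cons.2 ⟨shift_sound H hn (hR q (by simpa using hq)), hR⟩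
      next => simp at h1
    next q _ =>
      simp only [Option.bind_eq_some_iff, Option.map_eq_some_iff] at h1
      obtain ⟨j, hj, k, hk, rfl⟩ := h1
      exact List.forall_mem_cons.2 ⟨hex j hj hR hk, hR⟩
    next => simp at h1

theorem group_le_of_covers {L : List ℕ} {hL : ∀ l ∈ L, l < D.rank} (hn : C.wprod F (letters D L hL) ∈ M)
    {ex : Option ℕ} (hex : ∀ j, ex = some j → ∀ {R : List ℕ}, (∀ q ∈ R, Full C M q) → ∀ {q k : ℕ},
      newExtra D j R q = some k → Full C M k) {seeds : List ℕ} (hs : ∀ q ∈ seeds, Full C M q)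
    {ss : List (ℕ × ℕ × ℕ)} (hc : coversAll D L ex seeds ss = true) : D.group F ≤ M := by
  unfold coversAll at hc
  split at hc
  next R hR =>
    have hall := run_sound H hn hex ss seeds R hs hR
    simp only [List.all_eq_true, List.mem_range, List.contains_iff_mem] at hc
    unfold ChevalleyDatum.group
    rw [Subgroup.closure_le]
    rintro g ⟨r, t, hg⟩
    obtain ⟨r', hr', hM⟩ := hall r.val (hc r.val r.isLt)
    obtain rfl : r' = r := Fin.ext hr'
    rw [C.eq_X (g := g) (r := r') (t := t) (by rw [hg, ChevalleyDatum.x, dif_pos r'.isLt])]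
    exact hM t
  next => simp at hc

end

section

variable {D : ChevalleyDatum} {C : Core D} (H : CommOK C) {F : Type*} [Field F] [Finite F]

theorem X_pow (C : Core D) (r : Rt D) (t : F) : ∀ n : ℕ, C.X F r t ^ n = C.X F r (n * t)
  | 0 => by rw [pow_zero, Nat.cast_zero, zero_mul, C.X_zero]
  | n + 1 => by rw [pow_succ, X_pow C r t n, C.X_add, Nat.cast_succ, add_mul, one_mul]

theorem exists_gen_of_le {A B : GL D.Idx F} (hA : A ∈ D.group F) (hB : B ∈ D.group F)
    (h : D.group F ≤ Subgroup.closure {A, B}) :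
    ∃ a b : D.group F, Subgroup.closure ({a, b} : Set (D.group F)) = ⊤ := by
  refine ⟨⟨A, hA⟩, ⟨B, hB⟩, Subgroup.map_injective (D.group F).subtype_injective ?_⟩
  rw [MonoidHom.map_closure, ← MonoidHom.range_eq_map, Subgroup.range_subtype]
  refine le_antisymm ((Subgroup.closure_le _).2 ?_) (h.trans (Subgroup.closure_mono ?_))
  · rintro _ ⟨x, -, rfl⟩; exact x.2
  · simp [Set.image_insert_eq]

/-- A set of elements closed under addition and scaling by a square class is everything. -/
theorem addSubgroup_top {S : AddSubgroup F} {c : F} (hc : c ≠ 0) {A : ℤ} (hA : A.natAbs = 1 ∨ A.natAbs = 2)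
    (h : ∀ z : Fˣ, c * ((z ^ A : Fˣ) : F) ∈ S) (t : F) : t ∈ S := by
  haveI := Fintype.ofFinite F
  have hsq : ∀ x : F, c * x ^ 2 ∈ S := by
    intro x
    by_cases hx : x = 0
    · subst hx; simp
    set z := Units.mk0 x hx
    rcases Int.natAbs_eq A with e | e <;> rcases hA with hA | hA <;> rw [hA] at e
    · have := h (z * z); rw [e, Nat.cast_one, zpow_one] at this; simpa [z, sq] using this
    · have := h z; rw [e] at this; simpa [z, sq, zpow_two] using this
    · have := h (z⁻¹ * z⁻¹); rw [e, Nat.cast_one, zpow_neg_one] at this; simpa [z, sq] using this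
    · have := h z⁻¹; rw [e, inv_zpow', neg_neg] at this; simpa [z, sq, zpow_two] using this
  by_cases h2 : ringChar F = 2
  · obtain ⟨x, hx⟩ := FiniteField.isSquare_of_char_two h2 (t / c)
    have := hsq x
    rwa [sq, ← hx, mul_div_cancel₀ _ hc] at this
  · have h20 : (2 : F) ≠ 0 := Ring.two_ne_zero h2
    have h4 : (4 : F) ≠ 0 := by rw [show (4 : F) = 2 * 2 by norm_num]; exact mul_ne_zero h20 h20
    have := S.sub_mem (hsq ((t / c + 1) / 2)) (hsq ((t / c - 1) / 2))
    convert this using 1
    field_simp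
    ring

include H

theorem two_generated_B {L : List ℕ} {i j u k : ℕ} {ss : List (ℕ × ℕ × ℕ)}
    (hp : paramB D L i j u k ss = true) (hF : 3 ≤ Nat.card F) :
    ∃ a b : D.group F, Subgroup.closure ({a, b} : Set (D.group F)) = ⊤ := by
  haveI := Fintype.ofFinite F
  simp only [paramB, Bool.and_eq_true, List.all_eq_true, decide_eq_true_eq, beq_iff_eq, Bool.or_eq_true] at hp
  obtain ⟨⟨⟨⟨⟨⟨⟨⟨hL, hi⟩, hj⟩, hu⟩, hru⟩, hα⟩, hβ⟩, hs⟩, hcov⟩ := hp
  set W := letters D L hL
  set n := C.wprod F W
  set σ := C.pprod W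
  set r := C.p ⟨i, hi⟩
  set r' := C.p ⟨j, hj⟩
  set U : Rt D := ⟨u, hu⟩
  have hiv : D.simple i = r.val := C.simple_eq ⟨i, hi⟩
  have hjv : D.simple j = r'.val := C.simple_eq ⟨j, hj⟩
  rw [hiv, show u = U.val from rfl, prN_eq] at hru
  rw [hjv, show u = U.val from rfl, prN_eq] at hα
  set q₀ : Rt D := C.pprod W.reverse r' with hq₀
  have hq₀v : q₀.val = actW D L.reverse r'.val := by
    rw [hq₀, show W.reverse = letters D L.reverse (fun l hl => hL l (List.mem_reverse.1 hl)) by
      simp [W, letters, List.pmap_reverse]]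
    exact pprod_val C _ _ _
  rw [hjv, ← hq₀v, show u = U.val from rfl, prN_eq] at hβ
  have hσq : σ q₀ = r' := by
    rw [hq₀, ← Equiv.Perm.mul_apply]
    have := pprod_reverse_mul C W.reverse
    rw [List.reverse_reverse] at this
    rw [this]; rfl
  let hu' : Fˣ →* GL D.Idx F := MonoidHom.mk' (fun z => Core.hD F U z) fun a b => by
    rw [C.hD_eq_HT, C.hD_eq_HT, C.hD_eq_HT, C.HT_mul]
    congr 1; funext l; exact mul_zpow a b _
  have hconj : ∀ (z : Fˣ) (s : Rt D) (t : F), hu' z * C.X F s t * (hu' z)⁻¹ =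
      C.X F s (((z ^ pr D U s : Fˣ) : F) * t) := by
    intro z s t
    show Core.hD F U z * C.X F s t * (Core.hD F U z)⁻¹ = _
    rw [C.hD_X, mul_inv_cancel_right]
  obtain ⟨ζ, hζ⟩ := IsCyclic.exists_generator (α := Fˣ)
  have hζ1 : ζ ≠ 1 := by
    intro e
    have h1 : ∀ z : Fˣ, z = 1 := fun z => by
      have := hζ z
      rwa [e, Subgroup.zpowers_one_eq_bot, Subgroup.mem_bot] at this
    haveI : Subsingleton Fˣ := ⟨fun a b => (h1 a).trans (h1 b).symm⟩
    have : Nat.card Fˣ ≤ 1 := Finite.card_le_one_iff_subsingleton.2 this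
    rw [Nat.card_units] at this
    omega
  set h := hu' ζ with hh
  set A := h * C.X F r 1 with hAdef
  set B := C.X F r' 1 * n with hBdef
  have hnG : n ∈ D.group F := C.monomial_le_group (C.wprod_mem_monomial W)
  have hhD : h ∈ D.diagonalSubgroup F := by
    show Core.hD F U ζ ∈ _
    rw [C.hD_eq_HT]; exact C.HT_mem_diagonal _
  refine exists_gen_of_le (A := A) (B := B) (mul_mem (C.diagonal_le_group hhD) (C.X_mem_group _ _))
    (mul_mem (C.X_mem_group _ _) hnG) ?_
  set M := Subgroup.closure ({A, B} : Set (GL D.Idx F))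
  have hA : A ∈ M := Subgroup.subset_closure (by simp)
  have hB : B ∈ M := Subgroup.subset_closure (by simp)
  have hcomm : Commute h (C.X F r 1) := by
    have := hconj ζ r 1
    rw [hru, zpow_zero, Units.val_one, one_mul] at this
    exact mul_inv_eq_iff_eq_mul.1 this
  have hhM : h ∈ M := by
    have e : A ^ Fintype.card F = h := by
      rw [hAdef, hcomm.mul_pow, X_pow, FiniteField.cast_card_eq_zero, zero_mul, C.X_zero, mul_one, hh,
        ← map_pow]
      exact congrArg hu' (Units.ext (by simp [FiniteField.pow_card]))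
    exact e ▸ M.pow_mem hA _
  have hzM : ∀ z : Fˣ, hu' z ∈ M := by
    intro z
    obtain ⟨m, rfl⟩ := Subgroup.mem_zpowers_iff.1 (hζ z)
    rw [map_zpow]; exact M.zpow_mem hhM m
  have hscale : ∀ (s : Rt D) (c : F), C.X F s c ∈ M → c ≠ 0 →
      ((pr D U s).natAbs = 1 ∨ (pr D U s).natAbs = 2) → ∀ t, C.X F s t ∈ M := by
    intro s c hc hc0 hA' t
    let S : AddSubgroup F :=
      { carrier := {t | C.X F s t ∈ M}
        add_mem' := fun {a b} ha hb => by show C.X F s (a + b) ∈ M; rw [← C.X_add]; exact M.mul_mem ha hb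
        zero_mem' := by show C.X F s 0 ∈ M; rw [C.X_zero]; exact M.one_mem
        neg_mem' := fun {a} ha => by show C.X F s (-a) ∈ M; rw [← C.X_inv]; exact M.inv_mem ha }
    refine addSubgroup_top (S := S) hc0 hA' (fun z => ?_) t
    show C.X F s _ ∈ M
    rw [mul_comm, ← hconj]
    exact M.mul_mem (M.mul_mem (hzM z) hc) (M.inv_mem (hzM z))
  have hne : ∀ m : ℤ, m.natAbs = 1 → ((ζ ^ m : Fˣ) : F) ≠ 1 := by
    intro m hm e
    rw [Units.val_eq_one] at e
    rcases Int.natAbs_eq m with e' | e' <;> rw [hm] at e' <;> subst e'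
    · exact hζ1 (by simpa using e)
    · exact hζ1 (by simpa using e)
  obtain ⟨e₀, he₀⟩ := C.acts_wprod F W q₀
  set α := ((ζ ^ pr D U r' : Fˣ) : F)
  set β := ((ζ ^ pr D U q₀ : Fˣ) : F)
  set h' := n * h * n⁻¹ with hh'
  have hcd : h * h' = h' * h := by
    obtain ⟨c₁, hc₁⟩ := C.mem_diagonal_iff.1 hhD
    obtain ⟨c₂, hc₂⟩ := C.mem_diagonal_iff.1 (C.conj_diagonal (C.wprod_mem_monomial W) hhD)
    rw [show h' = C.HT F c₂ from hc₂, hc₁, C.HT_mul, C.HT_mul, mul_comm]
  have hh'X : ∀ t, h' * C.X F r' t * h'⁻¹ = C.X F r' (β * t) := by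
    intro t
    have e1 : C.X F r' t = n * C.X F q₀ ((↑e₀⁻¹ : F) * t) * n⁻¹ := by
      rw [he₀, hσq, ← mul_assoc, Units.mul_inv, one_mul]
    calc h' * C.X F r' t * h'⁻¹ = n * (h * C.X F q₀ ((↑e₀⁻¹ : F) * t) * h⁻¹) * n⁻¹ := by
          rw [hh', e1]; group
      _ = _ := by
          rw [hconj, he₀, hσq]; congr 1
          rw [mul_left_comm, ← mul_assoc (e₀ : F) (↑e₀⁻¹ : F), Units.mul_inv, one_mul]
  have hg : C.X F r' (1 - β) * h' ∈ M := by
    have e : B * h * B⁻¹ = C.X F r' (1 - β) * h' := by
      rw [hBdef, show C.X F r' 1 * n * h * (C.X F r' 1 * n)⁻¹ =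
        C.X F r' 1 * (h' * C.X F r' (-1) * h'⁻¹) * h' by rw [← C.X_inv, hh']; group, hh'X, C.X_add,
        mul_neg, mul_one, ← sub_eq_add_neg]
    exact e ▸ M.mul_mem (M.mul_mem hB hhM) (M.inv_mem hB)
  have hd : C.X F r' ((α - 1) * (1 - β)) ∈ M := by
    have e : h * (C.X F r' (1 - β) * h') * h⁻¹ * (C.X F r' (1 - β) * h')⁻¹ =
        C.X F r' ((α - 1) * (1 - β)) := by
      calc h * (C.X F r' (1 - β) * h') * h⁻¹ * (C.X F r' (1 - β) * h')⁻¹
          = h * C.X F r' (1 - β) * h⁻¹ * (h * h' * h⁻¹ * h'⁻¹) * (C.X F r' (1 - β))⁻¹ := by group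
        _ = C.X F r' (α * (1 - β)) * C.X F r' (-(1 - β)) := by
            rw [hcd, hconj, C.X_inv, mul_inv_cancel_right, mul_inv_cancel, mul_one]
        _ = _ := by rw [C.X_add]; congr 1; ring
    exact e ▸ M.mul_mem (M.mul_mem (M.mul_mem hhM hg) (M.inv_mem hhM)) (M.inv_mem hg)
  have hr'M : ∀ t, C.X F r' t ∈ M :=
    hscale r' _ hd (mul_ne_zero (sub_ne_zero.2 (hne _ hα)) (sub_ne_zero.2 (hne _ hβ).symm)) (Or.inl hα)
  have hnM : n ∈ M := by
    have := M.mul_mem (M.inv_mem (hr'M 1)) hB
    rwa [hBdef, inv_mul_cancel_left] at this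
  have horb : ∀ m : ℕ, ∃ s : Rt D, s.val = (actW D L)^[m] r.val ∧ ∃ c, c ≠ 0 ∧ C.X F s c ∈ M := by
    intro m
    induction m with
    | zero =>
      refine ⟨r, rfl, 1, one_ne_zero, ?_⟩
      have := M.mul_mem (M.inv_mem hhM) hA
      rwa [hAdef, inv_mul_cancel_left] at this
    | succ m ih =>
      obtain ⟨s, hs', c, hc0, hc⟩ := ih
      obtain ⟨e, he⟩ := C.acts_wprod F W s
      refine ⟨σ s, ?_, e * c, mul_ne_zero e.ne_zero hc0, ?_⟩
      · rw [Function.iterate_succ_apply', ← hs']; exact pprod_val C L hL s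
      · rw [← he]; exact M.mul_mem (M.mul_mem hnM hc) (M.inv_mem hnM)
  obtain ⟨s, hsv, c, hc0, hc⟩ := horb k
  rw [hiv, ← hsv, show u = U.val from rfl, prN_eq] at hs
  rw [hjv, hiv, ← hsv] at hcov
  refine group_le_of_covers H (M := M) (hL := hL) hnM (fun j hj => by simp at hj) ?_ hcov
  intro q hq
  simp only [List.mem_cons, List.not_mem_nil, or_false] at hq
  rcases hq with rfl | rfl
  · exact ⟨r', rfl, hr'M⟩
  · exact ⟨s, rfl, hscale s c hc hc0 hs⟩

theorem two_generated_C {L : List ℕ} {r j : ℕ} {ss : List (ℕ × ℕ × ℕ)}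
    (hp : paramC D L r j ss = true) (hF : Nat.card F = 2) :
    ∃ a b : D.group F, Subgroup.closure ({a, b} : Set (D.group F)) = ⊤ := by
  haveI := Fintype.ofFinite F
  rw [Nat.card_eq_fintype_card] at hF
  have h2 : ∀ x : F, x = 0 ∨ x = 1 := by
    intro x
    by_cases hx : x = 0
    · exact Or.inl hx
    · have := FiniteField.pow_card_sub_one_eq_one x hx
      rw [hF, show 2 - 1 = 1 from rfl, pow_one] at this
      exact Or.inr this
  simp only [paramC, Bool.and_eq_true, List.all_eq_true, decide_eq_true_eq, bne_iff_ne, ne_eq,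
    List.isEmpty_iff] at hp
  obtain ⟨⟨⟨⟨⟨⟨⟨hL, hr⟩, hj⟩, hne⟩, hneg⟩, he1⟩, he2⟩, hcov⟩ := hp
  set J : Fin D.rank := ⟨j, hj⟩
  set R : Rt D := ⟨r, hr⟩
  have hjv : D.simple j = (C.p J).val := C.simple_eq J
  rw [hjv] at hne hneg he1 he2
  rw [C.neg_val] at hneg he2
  set n := C.wprod F (letters D L hL)
  set s := C.p J
  set y := C.X F s 1 * C.P F J with hy
  set A := C.X F R 1 * y with hAdef
  have hyG : y ∈ D.group F := mul_mem (C.X_mem_group _ _) (C.monomial_le_group (C.P_mem_monomial J))
  refine exists_gen_of_le (A := A) (B := n) (mul_mem (C.X_mem_group _ _) hyG)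
    (C.monomial_le_group (C.wprod_mem_monomial _)) ?_
  set M := Subgroup.closure ({A, n} : Set (GL D.Idx F))
  have hA : A ∈ M := Subgroup.subset_closure (by simp)
  have hn : n ∈ M := Subgroup.subset_closure (by simp)
  have hcs : ∀ q : Rt D, q.val ≠ r → q.val ≠ R.rev.val → D.commTerms r q.val = [] →
      ∀ t, Commute (C.X F R 1) (C.X F q t) := by
    intro q hq1 hq2 he t
    have := H.comm_X R q (fun e => hq1 (congrArg Fin.val e)) (fun e => hq2 (congrArg Fin.val e)) 1 t
    rw [show D.commTerms R.val q.val = [] from he, List.map_nil, List.prod_nil, mul_one] at this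
    exact this.symm
  have hs1 : s.val ≠ R.rev.val := fun e => hneg (by
    show R.val = s.rev.val
    rw [show s = R.rev from Fin.ext e, C.rev_rev])
  have hs2 : s.rev.val ≠ R.rev.val := fun e => hne (by
    show R.val = s.val
    rw [Fin.rev_injective (Fin.ext e)])
  have hc1 := hcs s (fun e => hne e.symm) hs1 he1
  have hc2 := hcs s.rev (fun e => hneg e.symm) hs2 he2
  have hcy : Commute (C.X F R 1) y :=
    (hc1 1).mul_right (((hc1 _).mul_right (hc2 _)).mul_right (hc1 _))
  obtain ⟨φ, -, hφ⟩ := C.exists_slHom F s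
  have hy3 : y ^ 3 = 1 := by
    have hN : φ (slN 1) = C.P F J := by
      rw [slN, map_mul, map_mul, (hφ _).1, (hφ _).2]; rfl
    rw [hy, ← hN, ← (hφ 1).1, ← map_mul, ← map_pow, ← map_one φ]
    congr 1
    apply Subtype.ext
    simp only [pow_succ, pow_zero, one_mul, Matrix.SpecialLinearGroup.coe_mul, Matrix.SpecialLinearGroup.coe_one,
      slU_val, slN_val, Matrix.mul_fin_two, Units.val_one, inv_one, Matrix.one_fin_two]
    ext a b
    fin_cases a <;> fin_cases b <;> simp
  have h20 : (2 : F) = 0 := by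
    have := FiniteField.cast_card_eq_zero F
    rw [hF] at this
    exact_mod_cast this
  have hXR : C.X F R 1 ∈ M := by
    have : A ^ 3 = C.X F R 1 := by
      rw [hAdef, hcy.mul_pow, hy3, mul_one, X_pow]
      congr 1
      push_cast
      linear_combination h20
    exact this ▸ M.pow_mem hA 3
  have hyM : y ∈ M := by
    have := M.mul_mem (M.inv_mem hXR) hA
    rwa [hAdef, inv_mul_cancel_left] at this
  refine group_le_of_covers H (M := M) (hL := hL) hn
    (fun j' hj' R' hR' q k hk => extra_sound H (j := J) h2 hyM hR' (by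
      obtain rfl : j = j' := by simpa using hj'
      exact hk : newExtra D J.val R' q = some k)) ?_ hcov
  intro q hq
  obtain rfl : q = r := by simpa using hq
  refine ⟨R, rfl, fun t => ?_⟩
  rcases h2 t with rfl | rfl
  · rw [C.X_zero]; exact M.one_mem
  · exact hXR

end

end Cfsg.Agent.Lib.ChevTwoGen49
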